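import Groth.Agent.Lib.Lift7.Lines
import Groth.Agent.Lib.UnifVanish7.Levels

/-!
# Invertible modules on a flat adic system
-/

universe u

open CategoryTheory CategoryTheory.Limits AlgebraicGeometry TopologicalSpace Opposite

set_option linter.style.haveILetI false

noncomputable section

namespace GrothLib.Lift7

open IsLocalRing

variable {A : Type u} [CommRing A] [IsLocalRing A] [IsNoetherianRing A]

omit [IsNoetherianRing A] in
theorem isLocalRing_quot_pow (n : ℕ) : IsLocalRing (A ⧸ maximalIdeal A ^ (n + 1)) :=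
  haveI : Nontrivial (A ⧸ maximalIdeal A ^ (n + 1)) := Ideal.Quotient.nontrivial_iff.2 fun h =>
    (maximalIdeal.isMaximal A).ne_top (top_le_iff.1 (h.ge.trans (Ideal.pow_le_self (Nat.succ_ne_zero n))))
  IsLocalRing.of_surjective' (Ideal.Quotient.mk _) Ideal.Quotient.mk_surjective

theorem exists_lift_level {Xs : ℕ → Scheme.{u}}
    {p : (n : ℕ) → (Xs n ⟶ Spec (CommRingCat.of (A ⧸ maximalIdeal A ^ (n + 1))))} {i : (n : ℕ) → (Xs n ⟶ Xs (n + 1))}
    (hcart : ∀ n, IsPullback (i n) (p n) (p (n + 1)) (CohB1.specQuotTrans (maximalIdeal A) n))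
    (hflat : ∀ n, Flat (p n)) (h2 : Subsingleton (Coh.HH (Xs 0) (Coh.structureModule (Xs 0)) 2))
    (n : ℕ) {N : (Xs n).Modules} (hN : PicF.IsInvertible N) :
    ∃ M : (Xs (n + 1)).Modules, PicF.IsInvertible M ∧ Nonempty ((Scheme.Modules.pullback (i n)).obj M ≅ N) := by
  letI : ∀ k, (Xs k).Over (Spec (CommRingCat.of A)) := fun k => ⟨p k ≫ CohB1.specQuot (maximalIdeal A) k⟩
  have h : UnifVanish7.IsAdicSys (maximalIdeal A) i p := ⟨hcart, fun _ => rfl⟩
  obtain ⟨t, ht, he⟩ := UnifVanish7.isPullback_bot h (n + 1)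
  haveI := isLocalRing_quot_pow (A := A) (n + 1)
  haveI : IsArtinianRing (A ⧸ maximalIdeal A ^ (n + 1 + 1)) := by
    refine (isArtinianRing_iff_isNilpotent_maximalIdeal _).2 ⟨n + 2, ?_⟩
    rw [← IsLocalRing.map_maximalIdeal_of_surjective _ Ideal.Quotient.mk_surjective, ← Ideal.map_pow,
      Ideal.map_quotient_self]
    rfl
  haveI := hflat (n + 1)
  let ψ : A ⧸ maximalIdeal A ^ (n + 1 + 1) →+* A ⧸ maximalIdeal A ^ (0 + 1) :=
    Ideal.Quotient.factor (Ideal.pow_le_pow_right (Nat.succ_le_succ (Nat.zero_le _)))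
  have htψ : t = Spec.map (CommRingCat.ofHom ψ) := by
    haveI := FormalExist7.isClosedImmersion_specQuot (maximalIdeal A) (n + 1)
    rw [← cancel_mono (CohB1.specQuot (maximalIdeal A) (n + 1)), he, CohB1.specQuot, CohB1.specQuot, ← Spec.map_comp,
      ← CommRingCat.ofHom_comp, Ideal.Quotient.factor_comp_mk]
  have hker : ∀ {I : Ideal A} (hI : I ≠ ⊤) (hle : maximalIdeal A ^ (n + 1 + 1) ≤ I),
      RingHom.ker (Ideal.Quotient.factor hle) ≤ maximalIdeal _ := fun {I} hI hle =>
    IsLocalRing.le_maximalIdeal fun ht => hI (by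
      haveI : Subsingleton (A ⧸ I) := subsingleton_of_zero_eq_one ((map_one (Ideal.Quotient.factor hle)).symm.trans
        (RingHom.mem_ker.1 (ht ▸ Submodule.mem_top : (1 : A ⧸ maximalIdeal A ^ (n + 1 + 1)) ∈ _))).symm
      exact Ideal.Quotient.subsingleton_iff.1 ‹_›)
  have hne : ∀ k, maximalIdeal A ^ (k + 1) ≠ ⊤ := fun k h =>
    (maximalIdeal.isMaximal A).ne_top (top_le_iff.1 (h.ge.trans (Ideal.pow_le_self (Nat.succ_ne_zero k))))
  refine exists_lift_step _ (Ideal.Quotient.factor_surjective _) (hker (hne n) _) (hcart n) ψ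
    (Ideal.Quotient.factor_surjective _) (le_antisymm (hker (hne 0) _) ?_) (htψ ▸ ht) h2 hN
  rw [← IsLocalRing.map_maximalIdeal_of_surjective _ Ideal.Quotient.mk_surjective, Ideal.Quotient.factor_ker]
  exact Ideal.map_mono (pow_one (maximalIdeal A)).ge

end GrothLib.Lift7
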