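import Groth.Agent.Lib.PicThick26.Artinian
import Groth.Agent.Lib.PicSep26.Separated

/-!
# Lifting invertible modules along a flat adic system over a complete local ring
-/

universe u

open CategoryTheory CategoryTheory.Limits AlgebraicGeometry TopologicalSpace Opposite

set_option backward.isDefEq.respectTransparency false
set_option linter.style.haveILetI false

noncomputable section

namespace GrothLib.Lift7

open GrothLib.UnitsThick26 GrothLib.PicH1

theorem HGmap_surjective {T : TopCat.{u}} {F G : CohTop.Ab T} (f : F ⟶ G) (n : ℕ)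
    (h : Function.Surjective (Sheaf.H.map f n)) : Function.Surjective (HGmap f n) := h

theorem pull_surjective_of_H {Z X : Scheme.{u}} (c : Z ⟶ X) [IsClosedImmersion c]
    (h : Function.Surjective (Sheaf.H.map (UnitsSh.comap c) 1)) : Function.Surjective (Cube.pull c) := by
  intro p
  obtain ⟨z, rfl⟩ := (toPicPushHG_bijective c).2 p
  obtain ⟨y, hy⟩ := HGmap_surjective (UnitsSh.comap c) 1 h z.toAdd
  exact ⟨toPicHG X (Multiplicative.ofAdd y),
    (toPicPushHG_comap c _).symm.trans (congrArg (fun t => toPicPushHG c (Multiplicative.ofAdd t)) hy)⟩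

/-- Lifting invertible modules along a closed immersion surjective on Picard groups. -/
theorem exists_lift {Z X : Scheme.{u}} (c : Z ⟶ X) (hs : Function.Surjective (Cube.pull c))
    {L : Z.Modules} (hL : PicF.IsInvertible L) :
    ∃ M : X.Modules, PicF.IsInvertible M ∧ Nonempty ((Scheme.Modules.pullback c).obj M ≅ L) := by
  obtain ⟨b, ⟨M, rfl, hM⟩, hb⟩ := exists_pullCl_eq c hs (a := PicF.cl L) ⟨L, rfl, hL⟩
  exact ⟨M, hM, GrothLib.PicSep26.cl_eq_iff.1 hb⟩

variable {B : Type u} [CommRing B] [IsLocalRing B] [IsArtinianRing B] {X Y : Scheme.{u}}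
  {g : X ⟶ Spec (CommRingCat.of B)} [Flat g] {L : Type u} [CommRing L] {j : Y ⟶ X} {p : Y ⟶ Spec (CommRingCat.of L)}

/-- One step: over an Artinian local ring with vanishing `H^2` on the closed fibre invertible modules lift. -/
theorem exists_lift_step (φ : B →+* L) (hφ : Function.Surjective φ)
    (hker : RingHom.ker φ ≤ IsLocalRing.maximalIdeal B)
    (H : IsPullback j p g (Spec.map (CommRingCat.ofHom φ)))
    {Y₀ : Scheme.{u}} {K : Type u} [CommRing K] {j₀ : Y₀ ⟶ X} {p₀ : Y₀ ⟶ Spec (CommRingCat.of K)}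
    (ψ : B →+* K) (hψ : Function.Surjective ψ) (hkψ : RingHom.ker ψ = IsLocalRing.maximalIdeal B)
    (H₀ : IsPullback j₀ p₀ g (Spec.map (CommRingCat.ofHom ψ)))
    (h2 : Subsingleton (Coh.HH Y₀ (Coh.structureModule Y₀) 2))
    {N : Y.Modules} (hN : PicF.IsInvertible N) :
    ∃ M : X.Modules, PicF.IsInvertible M ∧ Nonempty ((Scheme.Modules.pullback j).obj M ≅ N) := by
  let e : K ≃+* IsLocalRing.ResidueField B :=
    (RingHom.quotientKerEquivOfSurjective hψ).symm.trans (Ideal.quotEquivOfEq hkψ)
  have he : (e : K →+* IsLocalRing.ResidueField B).comp ψ = IsLocalRing.residue B := by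
    ext b
    show Ideal.quotEquivOfEq hkψ ((RingHom.quotientKerEquivOfSurjective hψ).symm (ψ b)) = _
    rw [show (RingHom.quotientKerEquivOfSurjective hψ).symm (ψ b) = Ideal.Quotient.mk _ b from
      (RingHom.quotientKerEquivOfSurjective hψ).symm_apply_eq.2 rfl]
    rfl
  haveI : IsIso (CommRingCat.ofHom (e : K →+* IsLocalRing.ResidueField B)) := e.toCommRingCatIso.isIso_hom
  let r := pullback.lift (pullback.fst g (Spec.map (CommRingCat.ofHom (IsLocalRing.residue B))))
    (pullback.snd g (Spec.map (CommRingCat.ofHom (IsLocalRing.residue B))) ≫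
      Spec.map (CommRingCat.ofHom (e : K →+* IsLocalRing.ResidueField B))) (by
    rw [Category.assoc, ← Spec.map_comp, ← CommRingCat.ofHom_comp, he]
    exact pullback.condition) (f := g) (g := Spec.map (CommRingCat.ofHom ψ))
  haveI : IsIso r := by
    have hsq : IsPullback r (pullback.snd g (Spec.map (CommRingCat.ofHom (IsLocalRing.residue B))))
        (pullback.snd g (Spec.map (CommRingCat.ofHom ψ))) (Spec.map (CommRingCat.ofHom (e : K →+* IsLocalRing.ResidueField B))) := by
      refine IsPullback.of_right ?_ (pullback.lift_snd _ _ _) (IsPullback.of_hasPullback _ _)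
      rw [← Spec.map_comp, ← CommRingCat.ofHom_comp, he, pullback.lift_fst]
      exact IsPullback.of_hasPullback _ _
    exact hsq.isIso_fst_of_isIso
  haveI : IsIso (H₀.isoPullback.inv) := inferInstance
  have hvan := PicThick26.subsingleton_HH_structure_of_iso (r ≫ H₀.isoPullback.inv) 2 h2
  let J : Ideal B := RingHom.ker φ
  haveI := isClosedImmersion_imm g J
  have hs := pull_surjective_of_H (imm g J) (surjective_H_map g 1 hvan J hker)
  let σ : B ⧸ J ≃+* L := RingHom.quotientKerEquivOfSurjective hφ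
  obtain ⟨c, hc, hcp⟩ := exists_between g (σ : B ⧸ J →+* L) (j := j) (p := p) (by
    have : (σ : B ⧸ J →+* L).comp (Ideal.Quotient.mk J) = φ := RingHom.ext fun b => rfl
    rw [this]; exact H)
  haveI : IsIso (CommRingCat.ofHom (σ : B ⧸ J →+* L)) := σ.toCommRingCatIso.isIso_hom
  haveI : IsIso c := hcp.isIso_fst_of_isIso
  obtain ⟨M, hM, ⟨eM⟩⟩ := exists_lift (imm g J) hs (GrothLib.Ample.isInvertible_pullback (inv c) hN)
  refine ⟨M, hM, ⟨(Scheme.Modules.pullbackCongr hc.symm).app M ≪≫
    ((Scheme.Modules.pullbackComp c (imm g J)).app M).symm ≪≫ (Scheme.Modules.pullback c).mapIso eM ≪≫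
    (Scheme.Modules.pullbackComp c (inv c)).app N ≪≫ (Scheme.Modules.pullbackCongr (IsIso.hom_inv_id c)).app N ≪≫
    (Scheme.Modules.pullbackId Y).app N⟩⟩

end GrothLib.Lift7
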