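import Groth.Agent.Lib.FFormal7.Levels
import Groth.Agent.Lib.Lift7.Adic
import Groth.Agent.Lib.Algz56.Main
import Groth.Agent.Lib.FSchSys.PowLE
import Groth.Prelude.Def_FSch4

/-!
# Projective algebraization of a formal scheme over a complete local ring
-/

universe u

open CategoryTheory CategoryTheory.Limits AlgebraicGeometry TopologicalSpace Opposite

set_option linter.style.haveILetI false

noncomputable section

namespace GrothLib.Lift7

open IsLocalRing

variable {A : Type u} [CommRing A] (J : Ideal A)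

/-- The levels of the completion of `Spec A` are the spectra of the quotients. -/
def specLevIso (n : ℕ) :
    (FSch.completionAlong (Spec (CommRingCat.of A)) (FSch.idealSpec A J)).X n ≅
      Spec (CommRingCat.of (A ⧸ J ^ (n + 1))) :=
  haveI := FormalExist7.isClosedImmersion_specQuot J n
  have hk : (FSch.completionToX (Spec (CommRingCat.of A)) (FSch.idealSpec A J) n).ker = (CohB1.specQuot J n).ker :=
    (FSchSys.ker_completionToX _ n).trans (FSchSys.ker_spec_quot_pow J (n + 1)).symm
  { hom := IsClosedImmersion.lift (CohB1.specQuot J n) (FSch.completionToX _ (FSch.idealSpec A J) n) hk.ge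
    inv := IsClosedImmersion.lift (FSch.completionToX _ (FSch.idealSpec A J) n) (CohB1.specQuot J n) hk.le
    hom_inv_id := by
      rw [← cancel_mono (FSch.completionToX _ (FSch.idealSpec A J) n), Category.assoc, IsClosedImmersion.lift_fac,
        IsClosedImmersion.lift_fac, Category.id_comp]
    inv_hom_id := by
      rw [← cancel_mono (CohB1.specQuot J n), Category.assoc, IsClosedImmersion.lift_fac, IsClosedImmersion.lift_fac,
        Category.id_comp] }

theorem specLevIso_hom_quot (n : ℕ) : (specLevIso J n).hom ≫ CohB1.specQuot J n =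
    FSch.completionToX (Spec (CommRingCat.of A)) (FSch.idealSpec A J) n :=
  haveI := FormalExist7.isClosedImmersion_specQuot J n
  IsClosedImmersion.lift_fac _ _ _

theorem specLevIso_trans (n : ℕ) : (FSch.completionAlong (Spec (CommRingCat.of A)) (FSch.idealSpec A J)).ι n ≫
    (specLevIso J (n + 1)).hom = (specLevIso J n).hom ≫ CohB1.specQuotTrans J n := by
  haveI := FormalExist7.isClosedImmersion_specQuot J (n + 1)
  rw [← cancel_mono (CohB1.specQuot J (n + 1)), Category.assoc, Category.assoc, specLevIso_hom_quot,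
    UnifVanish7.specQuotTrans_specQuot, specLevIso_hom_quot, FSchSys.ι_completionToX]

/-- A system cut out of a scheme over `A` is its completion. -/
theorem exists_iso_completion (𝔛 : FSch.Sys.{u})
    (f : 𝔛 ⟶ FSch.completionAlong (Spec (CommRingCat.of A)) (FSch.idealSpec A J))
    {Y : Scheme.{u}} (g : Y ⟶ Spec (CommRingCat.of A)) (e : ∀ n, 𝔛.X n ⟶ Y)
    (hpb : ∀ n, IsPullback (e n) ((f : FSch.Hom _ _).app n ≫ (specLevIso J n).hom) g (CohB1.specQuot J n))
    (hec : ∀ n, e n = 𝔛.ι n ≫ e (n + 1)) :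
    ∃ (h : FSch.PowCompat g ((FSch.idealSpec A J).comap g) (FSch.idealSpec A J))
      (u : 𝔛 ≅ FSch.completionAlong Y ((FSch.idealSpec A J).comap g)),
      u.hom ≫ FSch.completionMap g ((FSch.idealSpec A J).comap g) (FSch.idealSpec A J) h = f := by
  letI : Y.Over (Spec (CommRingCat.of A)) := ⟨g⟩
  let 𝓘 := (FSch.idealSpec A J).comap g
  let τ : ∀ n, 𝔛.X n ≅ (FSch.completionAlong Y 𝓘).X n := fun n =>
    (hpb n).isoIsPullback _ _ (FFormal7.isPullback_lev J Y n)
  have hτ : ∀ n, (τ n).hom ≫ FSch.completionToX Y 𝓘 n = e n := fun n =>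
    (hpb n).isoIsPullback_hom_fst _ _ (FFormal7.isPullback_lev J Y n)
  have hcomm : ∀ n, (τ n).hom ≫ (FSch.completionAlong Y 𝓘).ι n = 𝔛.ι n ≫ (τ (n + 1)).hom := fun n => by
    rw [← cancel_mono (FSch.completionToX Y 𝓘 (n + 1))]
    calc ((τ n).hom ≫ (FSch.completionAlong Y 𝓘).ι n) ≫ FSch.completionToX Y 𝓘 (n + 1)
        = e n := by rw [Category.assoc]; exact (congrArg ((τ n).hom ≫ ·) (FSchSys.ι_completionToX 𝓘 n)).trans (hτ n)
      _ = 𝔛.ι n ≫ e (n + 1) := hec n
      _ = _ := by rw [← hτ (n + 1), Category.assoc]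
  have hPC : FSch.PowCompat g ((FSch.idealSpec A J).comap g) (FSch.idealSpec A J) := fun n =>
    (FSchSys.comap_pow (FSch.idealSpec A J) g (n + 1)).le
  refine ⟨hPC, ⟨⟨fun n => (τ n).hom, hcomm⟩,
    ⟨fun n => (τ n).inv, fun n => by
      rw [Iso.inv_comp_eq, ← Category.assoc, hcomm, Category.assoc, Iso.hom_inv_id, Category.comp_id]⟩,
    FSch.Hom.ext (funext fun n => (τ n).hom_inv_id), FSch.Hom.ext (funext fun n => (τ n).inv_hom_id)⟩,
    FSch.Hom.ext (funext fun n => ?_)⟩
  simp only [FSch.comp_app, FSch.completionMap_app]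
  refine (cancel_mono ((FSch.idealSpec A J ^ (n + 1)).subschemeι)).1 ?_
  refine (Category.assoc _ _ _).trans ((congrArg ((τ n).hom ≫ ·)
    (Scheme.IdealSheafData.subschemeMap_subschemeι (𝓘 ^ (n + 1)) (FSch.idealSpec A J ^ (n + 1)) g
      (Scheme.IdealSheafData.le_map_iff_comap_le.mpr (hPC n)))).trans ?_)
  refine (Category.assoc _ _ _).symm.trans ((congrArg (· ≫ g) (hτ n)).trans ((hpb n).w.trans ?_))
  rw [Category.assoc, specLevIso_hom_quot]
  rfl

variable [IsLocalRing A] [IsNoetherianRing A] [IsAdicComplete (maximalIdeal A) A]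

/-- A proper flat formal scheme with projective special fibre and `H^2(O) = 0` is a projective completion. -/
theorem exists_algebraization_of_h2 (𝔛 : FSch.Sys.{u})
    (f : 𝔛 ⟶ FSch.completionAlong (Spec (CommRingCat.of A)) (FSch.idealSpec A (maximalIdeal A)))
    (hf : FSch.IsProperHom f) (hflat : ∀ n, Flat ((f : FSch.Hom _ _).app n))
    {L₀ : (𝔛.X 0).Modules} (hL₀ : CohB1.IsAmple L₀)
    (h2 : Subsingleton (Coh.HH (𝔛.X 0) (Coh.structureModule (𝔛.X 0)) 2)) :
    ∃ (Y : Scheme.{u}) (g : Y ⟶ Spec (CommRingCat.of A)) (L : Y.Modules), IsProper g ∧ CohB1.IsAmple L ∧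
      ∃ (h : FSch.PowCompat g ((FSch.idealSpec A (maximalIdeal A)).comap g) (FSch.idealSpec A (maximalIdeal A)))
        (u : 𝔛 ≅ FSch.completionAlong Y ((FSch.idealSpec A (maximalIdeal A)).comap g)),
        u.hom ≫ FSch.completionMap g ((FSch.idealSpec A (maximalIdeal A)).comap g)
          (FSch.idealSpec A (maximalIdeal A)) h = f := by
  let m := maximalIdeal A
  let p : ∀ n, 𝔛.X n ⟶ Spec (CommRingCat.of (A ⧸ m ^ (n + 1))) := fun n =>
    (f : FSch.Hom _ _).app n ≫ (specLevIso m n).hom
  have hcart : ∀ n, IsPullback (𝔛.ι n) (p n) (p (n + 1)) (CohB1.specQuotTrans m n) := fun n =>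
    (hf.1 n).of_iso (Iso.refl _) (Iso.refl _) (specLevIso m n) (specLevIso m (n + 1))
      (by simp) (by simp [p]) (by simp [p]) (specLevIso_trans m n)
  have hfl : ∀ n, Flat (p n) := fun n => by haveI := hflat n; infer_instance
  have hp : IsProper (p 0) := by haveI := hf.2; infer_instance
  choose next hnext hiso using fun (n : ℕ) (N : {N : (𝔛.X n).Modules // PicF.IsInvertible N}) =>
    exists_lift_level hcart hfl h2 n N.2
  let L : ∀ n, {N : (𝔛.X n).Modules // PicF.IsInvertible N} := fun n =>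
    Nat.rec (motive := fun n => {N : (𝔛.X n).Modules // PicF.IsInvertible N}) ⟨L₀, hL₀.1⟩
      (fun k N => ⟨next k N, hnext k N⟩) n
  obtain ⟨Y, g, M, e, hg, -, hM, hpb, hec, -⟩ := Algz56.exists_algebraization_ample m p 𝔛.ι hcart hp
    (fun n => (L n).1) (fun n => (L n).2) (fun n => hiso n (L n)) hL₀
  exact ⟨Y, g, M, hg, hM, exists_iso_completion m 𝔛 f g e hpb hec⟩

end GrothLib.Lift7
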